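/-
Homology of sequential (and other exact) colimits of complexes.
-/
import Mathlib.Algebra.Homology.GrothendieckAbelian
import Mathlib.Algebra.Homology.HomologySequenceLemmas
import Mathlib.CategoryTheory.Abelian.GrothendieckAxioms.Colim
import Mathlib.CategoryTheory.Abelian.GrothendieckCategory.EnoughInjectives
import Mathlib.CategoryTheory.Limits.Connected
import Mathlib.Algebra.Homology.ShortComplex.ExactFunctor
import Mathlib.CategoryTheory.Filtered.Connected

set_option linter.unusedSectionVars false
set_option linter.style.haveILetI false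

universe w w' v u

open CategoryTheory Limits HomologicalComplex

namespace Groth.Agent.FreeResLib

variable {A : Type u} [Category.{v} A] [Abelian A] {J : Type w} [Category.{w'} J]
  [HasColimitsOfShape J A] [HasExactColimitsOfShape J A]

/-- Homology commutes with exact colimits of complexes. -/
noncomputable def isColimitHomology (K : J ⥤ CochainComplex A ℤ) {c : Cocone K} (hc : IsColimit c)
    (i : ℤ) : IsColimit ((HomologicalComplex.homologyFunctor A (ComplexShape.up ℤ) i).mapCocone c) := by
  let S : ShortComplex (J ⥤ A) := ShortComplex.mk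
    (Functor.whiskerLeft (K ⋙ shortComplexFunctor A (ComplexShape.up ℤ) i) ShortComplex.π₁Toπ₂)
    (Functor.whiskerLeft (K ⋙ shortComplexFunctor A (ComplexShape.up ℤ) i) ShortComplex.π₂Toπ₃)
    (NatTrans.ext (funext fun j => ((K.obj j).sc i).zero))
  haveI : (colim : (J ⥤ A) ⥤ A).PreservesHomology := inferInstance
  let e : ∀ n : ℤ, colimit (K ⋙ eval A (ComplexShape.up ℤ) n) ≅ c.pt.X n := fun n =>
    IsColimit.coconePointUniqueUpToIso (colimit.isColimit _)
      (isColimitOfPreserves (eval A (ComplexShape.up ℤ) n) hc)
  let eS : S.map colim ≅ c.pt.sc i := ShortComplex.isoMk (e _) (e _) (e _)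
    (colimit.hom_ext fun j => by
      dsimp [S, e]
      erw [colimit.ι_map_assoc, colimit.comp_coconePointUniqueUpToIso_hom,
        colimit.comp_coconePointUniqueUpToIso_hom_assoc]
      exact ((c.ι.app j).comm _ _))
    (colimit.hom_ext fun j => by
      dsimp [S, e]
      erw [colimit.ι_map_assoc, colimit.comp_coconePointUniqueUpToIso_hom,
        colimit.comp_coconePointUniqueUpToIso_hom_assoc]
      exact ((c.ι.app j).comm _ _))
  let eH : S.homology ≅ K ⋙ HomologicalComplex.homologyFunctor A (ComplexShape.up ℤ) i :=
    NatIso.ofComponents (fun j => (S.mapHomologyIso ((evaluation J A).obj j)).symm)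
      (fun {j k} φ => by
        rw [← cancel_epi (S.mapHomologyIso ((evaluation J A).obj j)).hom]
        have h := ShortComplex.homologyMap_mapNatTrans S ((evaluation J A).map φ)
        refine Eq.trans ?_ (Iso.hom_inv_id_assoc (S.mapHomologyIso ((evaluation J A).obj j)) _).symm
        exact h.symm)
  refine IsColimit.ofIsoColimit ((IsColimit.precomposeInvEquiv eH _).symm (colimit.isColimit _)) ?_
  refine Cocone.ext ((S.mapHomologyIso colim).symm ≪≫ ShortComplex.homologyMapIso eS) fun j => ?_
  let τ : (evaluation J A).obj j ⟶ colim :=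
    { app := fun F => colimit.ι F j
      naturality := fun F G φ => (colimit.ι_map φ j).symm }
  have h := ShortComplex.homologyMap_mapNatTrans S τ
  have hS : S.mapNatTrans τ ≫ eS.hom =
      (HomologicalComplex.shortComplexFunctor A (ComplexShape.up ℤ) i).map (c.ι.app j) := by
    ext
    · exact colimit.comp_coconePointUniqueUpToIso_hom
        (isColimitOfPreserves (eval A (ComplexShape.up ℤ) _) hc) j
    · exact colimit.comp_coconePointUniqueUpToIso_hom
        (isColimitOfPreserves (eval A (ComplexShape.up ℤ) _) hc) j
    · exact colimit.comp_coconePointUniqueUpToIso_hom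
        (isColimitOfPreserves (eval A (ComplexShape.up ℤ) _) hc) j
  show ((S.mapHomologyIso ((evaluation J A).obj j)).hom ≫ colimit.ι S.homology j) ≫
    (S.mapHomologyIso colim).inv ≫ ShortComplex.homologyMap eS.hom =
      ShortComplex.homologyMap ((HomologicalComplex.shortComplexFunctor A (ComplexShape.up ℤ) i).map (c.ι.app j))
  rw [← hS]
  refine Eq.trans ?_ (ShortComplex.homologyMap_comp _ _).symm
  rw [h]
  simp only [Category.assoc]
  rfl

/-- A map out of an exact colimit is an isomorphism if some component is epi and the kernels die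
along the diagram. -/
theorem isIso_desc [IsFiltered J] (D : J ⥤ A) {c : Cocone D} (hc : IsColimit c) (s : Cocone D)
    (he : ∃ j, Epi (s.ι.app j))
    (hm : ∀ j, ∃ (k : J) (φ : j ⟶ k), kernel.ι (s.ι.app j) ≫ D.map φ = 0) :
    IsIso (hc.desc s) := by
  haveI := IsFiltered.isConnected J
  obtain ⟨j₀, hj₀⟩ := he
  haveI : Epi (hc.desc s) := by
    haveI : Epi (c.ι.app j₀ ≫ hc.desc s) := by rw [hc.fac]; exact hj₀
    exact epi_of_epi (c.ι.app j₀) _
  let η : D ⟶ (Functor.const J).obj s.pt := s.ι
  let ev := fun j : J => (evaluation J A).obj j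
  haveI hmono : Mono (colim.map η) := by
    have hex : ((ShortComplex.mk (kernel.ι η) η (kernel.condition η)).map colim).Exact :=
      (ShortComplex.exact_kernel η).map colim
    refine hex.mono_g ((IsZero.iff_id_eq_zero _).2 (colimit.hom_ext fun j => ?_) |>.eq_of_src _ _)
    obtain ⟨k, φ, hφ⟩ := hm j
    have hk : (kernel η).map φ = 0 := by
      have hmono : Mono ((kernel.ι η).app k) := inferInstance
      rw [← cancel_mono ((kernel.ι η).app k), zero_comp, (kernel.ι η).naturality φ]
      have h0 : (kernel.ι η).app j ≫ s.ι.app j = 0 := congr($(kernel.condition η).app j)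
      rw [← kernel.lift_ι (s.ι.app j) _ h0, Category.assoc, hφ, comp_zero]
    refine (Category.comp_id _).trans (((colimit.w (kernel η) φ).symm.trans ?_).trans comp_zero.symm)
    rw [hk, zero_comp]
  haveI : Mono (hc.desc s) := by
    let e := (colimit.isColimit D).coconePointUniqueUpToIso hc
    let e' := (colimit.isColimit ((Functor.const J).obj s.pt)).coconePointUniqueUpToIso
      (isColimitConstCocone J s.pt)
    have h : e.inv ≫ colim.map η ≫ e'.hom = hc.desc s := hc.hom_ext fun j => by
      refine Eq.trans ?_ (hc.fac s j).symm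
      rw [IsColimit.comp_coconePointUniqueUpToIso_inv_assoc]
      show colimit.ι D j ≫ colimMap η ≫ e'.hom = _
      rw [ι_colimMap_assoc]
      erw [colimit.comp_coconePointUniqueUpToIso_hom]
      exact Category.comp_id _
    rw [← h]
    haveI : Mono (colim.map η ≫ e'.hom) := mono_comp' hmono inferInstance
    exact mono_comp' inferInstance this
  exact isIso_of_mono_of_epi _

/-- A map out of an exact colimit of complexes is a quasi-isomorphism if on each homology object some
component is epi and the kernels die along the diagram. -/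
theorem quasiIso_desc [IsFiltered J] (K : J ⥤ CochainComplex A ℤ) {c : Cocone K} (hc : IsColimit c)
    (G : CochainComplex A ℤ) (s : ∀ j, K.obj j ⟶ G) (f : c.pt ⟶ G) (hf : ∀ j, c.ι.app j ≫ f = s j)
    (he : ∀ i, ∃ j, Epi (homologyMap (s j) i))
    (hm : ∀ i j, ∃ (k : J) (φ : j ⟶ k), ∀ ⦃B : A⦄ (x : B ⟶ (K.obj j).homology i),
      x ≫ homologyMap (s j) i = 0 → x ≫ homologyMap (K.map φ) i = 0) : QuasiIso f := by
  refine ⟨fun i => (quasiIsoAt_iff_isIso_homologyMap _ _).mpr ?_⟩
  let H := HomologicalComplex.homologyFunctor A (ComplexShape.up ℤ) i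
  let sc : Cocone (K ⋙ H) := ⟨G.homology i,
    { app := fun j => homologyMap (s j) i
      naturality := fun j k φ => by
        show homologyMap (K.map φ) i ≫ homologyMap (s k) i = homologyMap (s j) i ≫ 𝟙 _
        rw [Category.comp_id, ← homologyMap_comp, ← hf, ← hf, c.w_assoc] }⟩
  have h : homologyMap f i = (isColimitHomology K hc i).desc sc :=
    (isColimitHomology K hc i).hom_ext fun j => by
      rw [IsColimit.fac]
      show homologyMap (c.ι.app j) i ≫ homologyMap f i = homologyMap (s j) i
      rw [← homologyMap_comp, hf]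
  rw [h]
  refine isIso_desc _ (isColimitHomology K hc i) sc (he i) fun j => ?_
  obtain ⟨k, φ, hφ⟩ := hm i j
  exact ⟨k, φ, hφ (kernel.ι (homologyMap (s j) i)) (kernel.condition _)⟩

end Groth.Agent.FreeResLib
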