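/-
Factorisation of a map of complexes through a degreewise split extension by coproducts of given generators and a
surjective quasi-isomorphism.
-/
import Groth.Agent.FreeResLib.Colimit
import Mathlib.Algebra.Homology.HomotopyCategory.MappingCone
import Mathlib.Algebra.Homology.HomologicalComplexBiprod
import Mathlib.Algebra.Homology.HomologicalComplexLimits
import Mathlib.Algebra.Homology.Refinements
import Mathlib.Algebra.Homology.Embedding.CochainComplex
import Mathlib.CategoryTheory.Functor.OfSequence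

set_option linter.unusedSectionVars false
set_option linter.style.haveILetI false
set_option backward.isDefEq.respectTransparency false

universe w v u

open CategoryTheory Limits HomologicalComplex
open CochainComplex (mappingCone)
open CochainComplex.HomComplex

namespace Groth.Agent.FreeResLib

variable {A : Type u} [Category.{v} A] [Abelian A]

/-- A family of generators covering every object. -/
structure Cov (A : Type u) [Category.{v} A] [Abelian A] where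
  /-- generators -/
  S : Type v
  /-- the objects -/
  obj : S → A
  /-- indices of a cover -/
  T : A → Type v
  /-- generators of a cover -/
  idx : ∀ M, T M → S
  /-- the covering maps -/
  π : ∀ M (t : T M), obj (idx M t) ⟶ M
  [hasCoproducts : HasCoproducts.{v} A]
  epi : ∀ M, Epi (Sigma.desc (π M))
  empty : ∀ M, IsZero M → IsEmpty (T M)

variable (𝒞 : Cov A) [HasCoproducts.{v} A]

/-- `X` is a coproduct of generators. -/
def IsSum (X : A) : Prop :=
  ∃ (T : Type v) (i : T → 𝒞.S), Nonempty (X ≅ ∐ fun t => 𝒞.obj (i t))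

theorem isSum_of_isZero {X : A} (h : IsZero X) : IsSum 𝒞 X :=
  ⟨PEmpty, PEmpty.elim, ⟨h.iso ((IsZero.iff_id_eq_zero _).2 (Sigma.hom_ext _ _ fun t => PEmpty.elim t))⟩⟩

theorem IsSum.of_iso {X Y : A} (e : X ≅ Y) (h : IsSum 𝒞 X) : IsSum 𝒞 Y := by
  obtain ⟨T, i, ⟨e'⟩⟩ := h
  exact ⟨T, i, ⟨e.symm ≪≫ e'⟩⟩

theorem IsSum.biprod {X Y : A} (hX : IsSum 𝒞 X) (hY : IsSum 𝒞 Y) : IsSum 𝒞 (X ⊞ Y) := by
  obtain ⟨T, i, ⟨e⟩⟩ := hX
  obtain ⟨T', i', ⟨e'⟩⟩ := hY
  refine ⟨T ⊕ T', Sum.elim i i', ⟨biprod.mapIso e e' ≪≫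
    { hom := biprod.desc (Sigma.desc fun t => Sigma.ι (fun x => 𝒞.obj (Sum.elim i i' x)) (Sum.inl t))
        (Sigma.desc fun t => Sigma.ι (fun x => 𝒞.obj (Sum.elim i i' x)) (Sum.inr t))
      inv := Sigma.desc fun x => match x with
        | Sum.inl t => Sigma.ι (fun t => 𝒞.obj (i t)) t ≫ biprod.inl
        | Sum.inr t => Sigma.ι (fun t => 𝒞.obj (i' t)) t ≫ biprod.inr
      hom_inv_id := by
        apply biprod.hom_ext'
        · refine Sigma.hom_ext _ _ fun t => ?_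
          rw [biprod.inl_desc_assoc, Sigma.ι_desc_assoc, Category.comp_id]
          exact Sigma.ι_desc _ (Sum.inl t)
        · refine Sigma.hom_ext _ _ fun t => ?_
          rw [biprod.inr_desc_assoc, Sigma.ι_desc_assoc, Category.comp_id]
          exact Sigma.ι_desc _ (Sum.inr t)
      inv_hom_id := by
        refine Sigma.hom_ext _ _ fun x => ?_
        rw [Category.comp_id, ← Category.assoc]
        refine (congrArg (· ≫ _) (Sigma.ι_desc _ x)).trans ?_
        rcases x with t | t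
        · exact (Category.assoc _ _ _).trans ((congrArg (_ ≫ ·) (biprod.inl_desc _ _)).trans (Sigma.ι_desc _ _))
        · exact (Category.assoc _ _ _).trans ((congrArg (_ ≫ ·) (biprod.inr_desc _ _)).trans (Sigma.ι_desc _ _)) }⟩⟩

/-- The cover. -/
noncomputable def cov (M : A) : A := ∐ fun t => 𝒞.obj (𝒞.idx M t)

/-- The covering map. -/
noncomputable def covπ (M : A) : cov 𝒞 M ⟶ M := Sigma.desc (𝒞.π M)

instance (M : A) : Epi (covπ 𝒞 M) := by
  unfold covπ cov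
  exact 𝒞.epi M

theorem isZero_cov {M : A} (h : IsZero M) : IsZero (cov 𝒞 M) := by
  haveI := 𝒞.empty M h
  exact (IsZero.iff_id_eq_zero _).2 (Sigma.hom_ext _ _ fun t => isEmptyElim t)

theorem isSum_cov (M : A) : IsSum 𝒞 (cov 𝒞 M) := ⟨_, _, ⟨Iso.refl _⟩⟩

/-- A complex with zero differential. -/
noncomputable abbrev zeroCx (L : ℤ → A) : CochainComplex A ℤ where
  X := L
  d _ _ := 0

/-- A map of complexes to a fixed complex `G`. -/
structure Stage (G : CochainComplex A ℤ) where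
  /-- the complex -/
  P : CochainComplex A ℤ
  /-- the map -/
  π : P ⟶ G

variable {G : CochainComplex A ℤ}

section Step

variable (s : Stage G)

/-- Cycles killed by `π`. -/
noncomputable abbrev zq (n : ℤ) : A := kernel (biprod.lift (s.P.d n (n + 1)) (s.π.f n))

/-- Its inclusion. -/
noncomputable abbrev zqι (n : ℤ) : zq s n ⟶ s.P.X n := kernel.ι _

theorem zqι_d (n m : ℤ) : zqι s n ≫ s.P.d n m = 0 := by
  by_cases h : n + 1 = m
  · subst h
    have := congr_arg (· ≫ biprod.fst) (kernel.condition (biprod.lift (s.P.d n (n + 1)) (s.π.f n)))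
    simpa only [Category.assoc, biprod.lift_fst, zero_comp] using this
  · rw [s.P.shape n m h, comp_zero]

theorem zqι_π (n : ℤ) : zqι s n ≫ s.π.f n = 0 := by
  have := congr_arg (· ≫ biprod.snd) (kernel.condition (biprod.lift (s.P.d n (n + 1)) (s.π.f n)))
  simpa only [Category.assoc, biprod.lift_snd, zero_comp] using this

/-- Generators of the next stage. -/
noncomputable abbrev stepL : CochainComplex A ℤ := zeroCx fun n => cov 𝒞 (zq s n)

/-- The attaching map. -/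
noncomputable def stepφ : stepL 𝒞 s ⟶ s.P where
  f n := covπ 𝒞 (zq s n) ≫ zqι s n
  comm' p q _ := by
    change (_ ≫ _) ≫ _ = (0 : (stepL 𝒞 s).X p ⟶ (stepL 𝒞 s).X q) ≫ _
    rw [zero_comp, Category.assoc, zqι_d, comp_zero]

theorem stepφ_π : stepφ 𝒞 s ≫ s.π = 0 := by
  ext n : 1
  change (_ ≫ _) ≫ _ = 0
  rw [Category.assoc, zqι_π, comp_zero]

/-- The next stage. -/
noncomputable def next : Stage G where
  P := mappingCone (stepφ 𝒞 s)
  π := CochainComplex.mappingCone.desc _ 0 s.π (by rw [δ_zero, stepφ_π, Cochain.ofHom_zero])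

/-- Inclusion into the next stage. -/
noncomputable def nextι : s.P ⟶ (next 𝒞 s).P := CochainComplex.mappingCone.inr _

theorem nextι_π : nextι 𝒞 s ≫ (next 𝒞 s).π = s.π :=
  CochainComplex.mappingCone.inr_desc (stepφ 𝒞 s) 0 s.π (by rw [δ_zero, stepφ_π, Cochain.ofHom_zero])

theorem zq_killed (n : ℤ) {B : A} (x : B ⟶ s.P.X n) (hd : x ≫ s.P.d n (n + 1) = 0)
    (hπ : x ≫ s.π.f n = 0) :
    ∃ (B' : A) (e : B' ⟶ B) (_ : Epi e) (y : B' ⟶ (next 𝒞 s).P.X (n - 1)),
      e ≫ x ≫ (nextι 𝒞 s).f n = y ≫ (next 𝒞 s).P.d (n - 1) n ∧ y ≫ (next 𝒞 s).π.f (n - 1) = 0 := by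
  let x' : B ⟶ zq s n := kernel.lift _ x (by
    apply biprod.hom_ext
    · rw [Category.assoc, biprod.lift_fst, hd, zero_comp]
    · rw [Category.assoc, biprod.lift_snd, hπ, zero_comp])
  obtain ⟨B', e, he, l, hl⟩ := surjective_up_to_refinements_of_epi (covπ 𝒞 (zq s n)) x'
  refine ⟨B', e, he, l ≫ (CochainComplex.mappingCone.inl (stepφ 𝒞 s)).v n (n - 1) (by omega), ?_, ?_⟩
  · have h1 : (CochainComplex.mappingCone.inl (stepφ 𝒞 s)).v n (n - 1) (by omega) ≫
        (mappingCone (stepφ 𝒞 s)).d (n - 1) n =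
        (stepφ 𝒞 s).f n ≫ (CochainComplex.mappingCone.inr (stepφ 𝒞 s)).f n := by
      rw [CochainComplex.mappingCone.inl_v_d (stepφ 𝒞 s) n (n - 1) (n + 1) (by omega) (by omega)]
      rw [show (stepL 𝒞 s).d n (n + 1) = 0 from rfl, zero_comp, sub_zero]
    have h2 : e ≫ x = l ≫ (stepφ 𝒞 s).f n := by
      show e ≫ x = l ≫ covπ 𝒞 (zq s n) ≫ zqι s n
      rw [← Category.assoc, ← hl, Category.assoc, kernel.lift_ι]
    refine ((Category.assoc _ _ _).symm.trans (congrArg (· ≫ _) h2)).trans ?_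
    exact (Category.assoc _ _ _).trans ((congrArg (l ≫ ·) h1.symm).trans (Category.assoc _ _ _).symm)
  · show (l ≫ _) ≫ (CochainComplex.mappingCone.desc (stepφ 𝒞 s) 0 s.π (by rw [δ_zero, stepφ_π, Cochain.ofHom_zero])).f (n - 1) = 0
    rw [Category.assoc, CochainComplex.mappingCone.inl_v_desc_f, Cochain.zero_v, comp_zero]

end Step

section Tower

variable (s : Stage G)

/-- The stages. -/
noncomputable def stage : ℕ → Stage G
  | 0 => s
  | k + 1 => next 𝒞 (stage k)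

/-- The tower. -/
noncomputable def tower : ℕ ⥤ CochainComplex A ℤ :=
  Functor.ofSequence (X := fun k => (stage 𝒞 s k).P) fun k => nextι 𝒞 (stage 𝒞 s k)

theorem tower_map_succ (k : ℕ) :
    (tower 𝒞 s).map (homOfLE (Nat.le_succ k)) = nextι 𝒞 (stage 𝒞 s k) :=
  Functor.ofSequence_map_homOfLE_succ _ k

/-- The maps to `G`. -/
noncomputable def towerπ : tower 𝒞 s ⟶ (Functor.const ℕ).obj G :=
  NatTrans.ofSequence (fun k => (stage 𝒞 s k).π) (fun k => by
    rw [tower_map_succ]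
    exact (nextι_π 𝒞 _).trans (Category.comp_id _).symm)

/-- Generators in degree `n` attached at stage `k`. -/
noncomputable abbrev newT (n : ℤ) (k : ℕ) : Type v := 𝒞.T (zq (stage 𝒞 s k) (n + 1))

/-- All generators attached in degree `n`. -/
noncomputable abbrev allSum (n : ℤ) : A :=
  ∐ fun t : (Σ k : ℕ, newT 𝒞 s n k) => 𝒞.obj (𝒞.idx _ t.2)

/-- The new part in degree `n`. -/
noncomputable def newι (n : ℤ) (k : ℕ) :
    (stepL 𝒞 (stage 𝒞 s k)).X (n + 1) ⟶ allSum 𝒞 s n :=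
  Sigma.desc fun t => Sigma.ι (fun t : (Σ k : ℕ, newT 𝒞 s n k) => 𝒞.obj (𝒞.idx _ t.2)) ⟨k, t⟩

/-- Coordinates of a stage. -/
noncomputable def stageIn (n : ℤ) : ∀ k, (stage 𝒞 s k).P.X n ⟶ s.P.X n ⊞ allSum 𝒞 s n
  | 0 => biprod.inl
  | k + 1 => (CochainComplex.mappingCone.fst (stepφ 𝒞 (stage 𝒞 s k))).1.v n (n + 1) rfl ≫
      newι 𝒞 s n k ≫ biprod.inr +
      (CochainComplex.mappingCone.snd (stepφ 𝒞 (stage 𝒞 s k))).v n n (add_zero n) ≫ stageIn n k

theorem nextι_stageIn (n : ℤ) (k : ℕ) :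
    (nextι 𝒞 (stage 𝒞 s k)).f n ≫ stageIn 𝒞 s n (k + 1) = stageIn 𝒞 s n k := by
  show (CochainComplex.mappingCone.inr (stepφ 𝒞 (stage 𝒞 s k))).f n ≫ (_ + _) = _
  simp

/-- The cocone of coordinates. -/
noncomputable def degCocone (n : ℤ) : Cocone (tower 𝒞 s ⋙ eval A (ComplexShape.up ℤ) n) :=
  ⟨s.P.X n ⊞ allSum 𝒞 s n, NatTrans.ofSequence (fun k => stageIn 𝒞 s n k) (fun k => by
    refine Eq.trans ?_ ((nextι_stageIn 𝒞 s n k).trans (Category.comp_id _).symm)
    show ((tower 𝒞 s).map _).f n ≫ _ = _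
    rw [tower_map_succ])⟩

/-- Inclusion of new generators in a colimit. -/
noncomputable def outSum (n : ℤ) (c : Cocone (tower 𝒞 s ⋙ eval A (ComplexShape.up ℤ) n)) :
    allSum 𝒞 s n ⟶ c.pt :=
  Sigma.desc fun t => Sigma.ι (fun t' : newT 𝒞 s n t.1 => 𝒞.obj (𝒞.idx _ t')) t.2 ≫
    (CochainComplex.mappingCone.inl (stepφ 𝒞 (stage 𝒞 s t.1))).v (n + 1) n (by omega) ≫
      c.ι.app (t.1 + 1)

/-- Each degree of the colimit is the start plus all attached generators. -/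
noncomputable def isColimitDeg (n : ℤ) : IsColimit (degCocone 𝒞 s n) where
  desc c := biprod.desc (c.ι.app 0) (outSum 𝒞 s n c)
  fac c k := by
    show stageIn 𝒞 s n k ≫ biprod.desc (c.ι.app 0) (outSum 𝒞 s n c) = c.ι.app k
    induction k with
    | zero => exact biprod.inl_desc _ _
    | succ k ih =>
      refine (CochainComplex.mappingCone.ext_from_iff (stepφ 𝒞 (stage 𝒞 s k)) (n + 1) n rfl _ _).2 ⟨?_, ?_⟩
      · show _ ≫ ((_ + _) ≫ _) = _
        simp only [Preadditive.add_comp, Preadditive.comp_add, Category.assoc,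
          CochainComplex.mappingCone.inl_v_fst_v_assoc, CochainComplex.mappingCone.inl_v_snd_v_assoc,
          zero_comp, add_zero, biprod.inr_desc]
        refine Sigma.hom_ext _ _ fun t => ?_
        dsimp only [newι, outSum, stepL, zeroCx, cov]
        simp
      · show _ ≫ ((_ + _) ≫ _) = _
        simp only [Preadditive.add_comp, Preadditive.comp_add, Category.assoc,
          CochainComplex.mappingCone.inr_f_fst_v_assoc, CochainComplex.mappingCone.inr_f_snd_v_assoc,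
          zero_comp, zero_add, ih]
        refine ((c.w (homOfLE (Nat.le_succ k))).symm.trans ?_)
        show ((tower 𝒞 s).map _).f n ≫ _ = _
        rw [tower_map_succ]
        rfl
  uniq c m hm := by
    suffices key : ∀ m' : s.P.X n ⊞ allSum 𝒞 s n ⟶ c.pt, (∀ k, stageIn 𝒞 s n k ≫ m' = c.ι.app k) →
        m' = biprod.desc (c.ι.app 0) (outSum 𝒞 s n c) from key m hm
    intro m' hm'
    apply biprod.hom_ext'
    · rw [biprod.inl_desc]
      exact hm' 0
    · rw [biprod.inr_desc]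
      refine Sigma.hom_ext _ _ fun t => ?_
      rw [outSum, Sigma.ι_desc, ← hm' (t.1 + 1)]
      show _ = _ ≫ _ ≫ (_ + _) ≫ m'
      simp only [Preadditive.add_comp, Preadditive.comp_add, Category.assoc,
        CochainComplex.mappingCone.inl_v_fst_v_assoc, CochainComplex.mappingCone.inl_v_snd_v_assoc,
        zero_comp, add_zero]
      dsimp only [newι, cov]
      simp

end Tower

section Start

variable {P : CochainComplex A ℤ} (f : P ⟶ G)

/-- Generators hitting all elements of `G`, shifted. -/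
noncomputable abbrev baseL (G : CochainComplex A ℤ) : CochainComplex A ℤ :=
  zeroCx fun p => cov 𝒞 (G.X (p - 1))

/-- Generators to elements. -/
noncomputable def baseα (G : CochainComplex A ℤ) : Cochain (baseL 𝒞 G) G (-1) :=
  Cochain.mk fun p q h => covπ 𝒞 (G.X (p - 1)) ≫ (G.XIsoOfEq (show p - 1 = q by omega)).hom

/-- Generators to differentials. -/
noncomputable def baseβ (G : CochainComplex A ℤ) : baseL 𝒞 G ⟶ G where
  f p := covπ 𝒞 (G.X (p - 1)) ≫ G.d (p - 1) p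
  comm' p q _ := by
    change (_ ≫ _) ≫ _ = (0 : (baseL 𝒞 G).X p ⟶ (baseL 𝒞 G).X q) ≫ _
    rw [zero_comp, Category.assoc, G.d_comp_d, comp_zero]

theorem baseα_δ (G : CochainComplex A ℤ) :
    δ (-1) 0 (baseα 𝒞 G) = Cochain.ofHom (𝟙 (baseL 𝒞 G) ≫ baseβ 𝒞 G) := by
  ext p : 1
  rw [δ_v (-1) 0 (by omega) (baseα 𝒞 G) p p (add_zero p) (p - 1) (p + 1) (by omega) rfl,
    Category.id_comp, Cochain.ofHom_v]
  rw [show (baseL 𝒞 G).d p (p + 1) = 0 from rfl, zero_comp, smul_zero, add_zero, baseα,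
    Cochain.mk_v, XIsoOfEq_rfl, Iso.refl_hom]
  simp [baseβ]

/-- The contractible surjection. -/
noncomputable def baseπ (G : CochainComplex A ℤ) : mappingCone (𝟙 (baseL 𝒞 G)) ⟶ G :=
  CochainComplex.mappingCone.desc _ (baseα 𝒞 G) (baseβ 𝒞 G) (baseα_δ 𝒞 G)

theorem epi_baseπ (G : CochainComplex A ℤ) (n : ℤ) : Epi ((baseπ 𝒞 G).f n) := by
  haveI : Epi ((CochainComplex.mappingCone.inl (𝟙 (baseL 𝒞 G))).v (n + 1) n (by omega) ≫
      (baseπ 𝒞 G).f n) := by
    rw [baseπ, CochainComplex.mappingCone.inl_v_desc_f, baseα, Cochain.mk_v]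
    exact epi_comp' (inferInstance : Epi (covπ 𝒞 (G.X (n + 1 - 1)))) inferInstance
  exact epi_of_epi ((CochainComplex.mappingCone.inl (𝟙 (baseL 𝒞 G))).v (n + 1) n _) _

/-- The starting stage. -/
noncomputable def start : Stage G where
  P := P ⊞ mappingCone (𝟙 (baseL 𝒞 G))
  π := biprod.desc f (baseπ 𝒞 G)

theorem epi_start (n : ℤ) : Epi ((start 𝒞 f).π.f n) := by
  haveI := epi_baseπ 𝒞 G n
  haveI : Epi ((biprod.inr : _ ⟶ P ⊞ mappingCone (𝟙 (baseL 𝒞 G))).f n ≫ (start 𝒞 f).π.f n) := by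
    rw [← comp_f]
    show Epi (((biprod.inr : _ ⟶ P ⊞ _) ≫ biprod.desc f (baseπ 𝒞 G)).f n)
    rw [biprod.inr_desc]
    infer_instance
  exact epi_of_epi ((biprod.inr : _ ⟶ P ⊞ mappingCone (𝟙 (baseL 𝒞 G))).f n) _

theorem epi_stage (s : Stage G) (hs : ∀ n, Epi (s.π.f n)) (k : ℕ) (n : ℤ) :
    Epi ((stage 𝒞 s k).π.f n) := by
  induction k with
  | zero => exact hs n
  | succ k ih =>
    haveI := ih
    haveI : Epi ((nextι 𝒞 (stage 𝒞 s k)).f n ≫ (stage 𝒞 s (k + 1)).π.f n) := by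
      show Epi ((nextι 𝒞 (stage 𝒞 s k)).f n ≫ (next 𝒞 (stage 𝒞 s k)).π.f n)
      rw [← comp_f, nextι_π]
      infer_instance
    exact epi_of_epi ((nextι 𝒞 (stage 𝒞 s k)).f n) _

theorem epi_homology_next (s : Stage G) (hs : ∀ n, Epi (s.π.f n)) (n : ℤ) :
    Epi (homologyMap (next 𝒞 s).π n) := by
  rw [epi_homologyMap_iff_up_to_refinements (next 𝒞 s).π (n - 1) n (n + 1) (by simp) (by simp)]
  intro B g hg
  haveI := hs n
  obtain ⟨B₁, e₁, he₁, x, hx⟩ := surjective_up_to_refinements_of_epi (s.π.f n) g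
  obtain ⟨B₂, e₂, he₂, y, hy, hy'⟩ := zq_killed 𝒞 s (n + 1) (x ≫ s.P.d n (n + 1))
    (by rw [Category.assoc, s.P.d_comp_d, comp_zero])
    (by rw [Category.assoc, ← s.π.comm, ← Category.assoc, ← hx, Category.assoc, hg, comp_zero])
  obtain ⟨m, rfl⟩ : ∃ m, m = n := ⟨n, rfl⟩
  let y₀ : B₂ ⟶ (next 𝒞 s).P.X m := y ≫ ((next 𝒞 s).P.XIsoOfEq (show m + 1 - 1 = m by omega)).hom
  have hy₀ : y₀ ≫ (next 𝒞 s).P.d m (m + 1) = e₂ ≫ (x ≫ s.P.d m (m + 1)) ≫ (nextι 𝒞 s).f (m + 1) := by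
    rw [hy, Category.assoc, XIsoOfEq_hom_comp_d]
  have hy₀' : y₀ ≫ (next 𝒞 s).π.f m = 0 := by
    rw [Category.assoc, ← XIsoOfEq_hom_naturality, reassoc_of% hy', zero_comp]
  refine ⟨B₂, e₂ ≫ e₁, inferInstance, e₂ ≫ x ≫ (nextι 𝒞 s).f m - y₀, ?_, 0, ?_⟩
  · rw [Preadditive.sub_comp, hy₀, Category.assoc, Category.assoc, Category.assoc,
      (nextι 𝒞 s).comm, sub_self]
  · rw [zero_comp, add_zero, Preadditive.sub_comp, hy₀', sub_zero, Category.assoc, Category.assoc,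
      Category.assoc, hx, ← comp_f, nextι_π]

theorem homology_killed (s : Stage G) (hs : ∀ n, Epi (s.π.f n)) (n : ℤ) {B : A}
    (γ : B ⟶ s.P.homology n) (hγ : γ ≫ homologyMap s.π n = 0) :
    γ ≫ homologyMap (nextι 𝒞 s) n = 0 := by
  obtain ⟨B₁, e₁, he₁, z, hz, hγz⟩ := s.P.eq_liftCycles_homologyπ_up_to_refinements γ (n + 1) (by simp)
  rw [← cancel_epi e₁, reassoc_of% hγz, homologyπ_naturality, liftCycles_comp_cyclesMap_assoc, comp_zero]
  have h0 : G.liftCycles (z ≫ s.π.f n) (n + 1) (by simp)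
      (by rw [Category.assoc, s.π.comm, reassoc_of% hz, zero_comp]) ≫ G.homologyπ n = 0 := by
    have := congrArg (e₁ ≫ ·) hγ
    rw [reassoc_of% hγz, homologyπ_naturality, liftCycles_comp_cyclesMap_assoc, comp_zero] at this
    exact this
  rw [liftCycles_comp_homologyπ_eq_zero_iff_up_to_refinements G (n - 1) n (n + 1) (by simp) (by simp)] at h0
  obtain ⟨B₂, e₂, he₂, g, hg⟩ := h0
  haveI := hs (n - 1)
  obtain ⟨B₃, e₃, he₃, x, hx⟩ := surjective_up_to_refinements_of_epi (s.π.f (n - 1)) g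
  obtain ⟨B₄, e₄, he₄, y, hy, -⟩ := zq_killed 𝒞 s n (e₃ ≫ e₂ ≫ z - x ≫ s.P.d (n - 1) n)
    (by rw [Preadditive.sub_comp, Category.assoc, Category.assoc, Category.assoc, hz, s.P.d_comp_d,
      comp_zero, comp_zero, comp_zero, sub_zero])
    (by
      rw [Preadditive.sub_comp, Category.assoc, Category.assoc, Category.assoc, hg, ← s.π.comm,
        ← Category.assoc x, ← hx, Category.assoc, sub_self])
  rw [liftCycles_comp_homologyπ_eq_zero_iff_up_to_refinements (next 𝒞 s).P (n - 1) n (n + 1) (by simp) (by simp)]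
  refine ⟨B₄, e₄ ≫ e₃ ≫ e₂, inferInstance, e₄ ≫ x ≫ (nextι 𝒞 s).f (n - 1) + y, ?_⟩
  rw [Preadditive.add_comp, ← hy, Preadditive.sub_comp, Preadditive.comp_sub]
  simp only [Category.assoc, (nextι 𝒞 s).comm]
  abel

theorem isStrictlyLE_stage (b : ℤ) [P.IsStrictlyLE b] [G.IsStrictlyLE b] (k : ℕ) :
    (stage 𝒞 (start 𝒞 f) k).P.IsStrictlyLE (b + 1) := by
  rw [CochainComplex.isStrictlyLE_iff]
  have cone : ∀ {K L : CochainComplex A ℤ} (φ : K ⟶ L) (i : ℤ), IsZero (K.X (i + 1)) → IsZero (L.X i) →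
      IsZero ((mappingCone φ).X i) := fun φ i h₁ h₂ =>
    (IsZero.iff_id_eq_zero _).2 ((CochainComplex.mappingCone.ext_from_iff φ (i + 1) i rfl _ _).2
      ⟨h₁.eq_of_src _ _, h₂.eq_of_src _ _⟩)
  induction k with
  | zero =>
    intro i hi
    have h₁ : IsZero (P.X i) := P.isZero_of_isStrictlyLE b i (by omega)
    have h₂ := cone (𝟙 (baseL 𝒞 G)) i (isZero_cov 𝒞 (G.isZero_of_isStrictlyLE b _ (by omega)))
      (isZero_cov 𝒞 (G.isZero_of_isStrictlyLE b _ (by omega)))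
    refine (IsZero.iff_id_eq_zero _).2 ?_
    show 𝟙 ((P ⊞ mappingCone (𝟙 (baseL 𝒞 G))).X i) = 0
    rw [← id_f, ← biprod.total, add_f_apply, comp_f, comp_f, h₁.eq_of_src ((biprod.inl : P ⟶ P ⊞ _).f i) 0,
      h₂.eq_of_src ((biprod.inr : _ ⟶ P ⊞ mappingCone (𝟙 (baseL 𝒞 G))).f i) 0, comp_zero, comp_zero, add_zero]
  | succ k ih =>
    intro i hi
    refine cone _ i (isZero_cov 𝒞 ?_) (ih i hi)
    exact (ih (i + 1) (by omega)).of_mono (zqι (stage 𝒞 (start 𝒞 f) k) (i + 1))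

end Start

section Factor

variable [HasColimitsOfShape ℕ A] [HasExactColimitsOfShape ℕ A] {P : CochainComplex A ℤ} (f : P ⟶ G)

/-- The middle object. -/
noncomputable def mid : CochainComplex A ℤ := colimit (tower 𝒞 (start 𝒞 f))

/-- The first map. -/
noncomputable def midι : P ⟶ mid 𝒞 f :=
  (biprod.inl : P ⟶ P ⊞ mappingCone (𝟙 (baseL 𝒞 G))) ≫ colimit.ι (tower 𝒞 (start 𝒞 f)) 0

/-- The second map. -/
noncomputable def midπ : mid 𝒞 f ⟶ G := colimit.desc _ ⟨G, towerπ 𝒞 (start 𝒞 f)⟩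

theorem ι_midπ (k : ℕ) :
    colimit.ι (tower 𝒞 (start 𝒞 f)) k ≫ midπ 𝒞 f = (stage 𝒞 (start 𝒞 f) k).π :=
  colimit.ι_desc _ _

theorem midι_midπ : midι 𝒞 f ≫ midπ 𝒞 f = f := by
  rw [midι, Category.assoc, ι_midπ]
  exact biprod.inl_desc _ _

theorem epi_midπ (n : ℤ) : Epi ((midπ 𝒞 f).f n) := by
  haveI : Epi ((colimit.ι (tower 𝒞 (start 𝒞 f)) 0).f n ≫ (midπ 𝒞 f).f n) := by
    rw [← comp_f, ι_midπ]
    exact epi_start 𝒞 f n
  exact epi_of_epi ((colimit.ι (tower 𝒞 (start 𝒞 f)) 0).f n) _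

theorem quasiIso_midπ : QuasiIso (midπ 𝒞 f) := by
  refine quasiIso_desc (tower 𝒞 (start 𝒞 f)) (colimit.isColimit _) G
    (towerπ 𝒞 (start 𝒞 f)).app (midπ 𝒞 f) (fun k => ι_midπ 𝒞 f k)
    (fun i => ⟨1, epi_homology_next 𝒞 (start 𝒞 f) (epi_start 𝒞 f) i⟩) fun i k => ?_
  refine ⟨k + 1, homOfLE (Nat.le_succ k), fun B x hx => ?_⟩
  rw [tower_map_succ]
  exact homology_killed 𝒞 _ (epi_stage 𝒞 _ (epi_start 𝒞 f) k) i x hx

theorem isStrictlyLE_mid (b : ℤ) [P.IsStrictlyLE b] [G.IsStrictlyLE b] :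
    (mid 𝒞 f).IsStrictlyLE (b + 1) := by
  rw [CochainComplex.isStrictlyLE_iff]
  intro i hi
  have hc := isColimitOfPreserves (eval A (ComplexShape.up ℤ) i) (colimit.isColimit (tower 𝒞 (start 𝒞 f)))
  refine (IsZero.iff_id_eq_zero _).2 (hc.hom_ext fun k => ?_)
  haveI := isStrictlyLE_stage 𝒞 f b k
  exact ((stage 𝒞 (start 𝒞 f) k).P.isZero_of_isStrictlyLE (b + 1) i hi).eq_of_src _ _

/-- In each degree the extension is split with cokernel a coproduct of generators. -/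
theorem exists_splitting (n : ℤ) :
    ∃ (Q : A) (e : (mid 𝒞 f).X n ≅ P.X n ⊞ Q), IsSum 𝒞 Q ∧ (midι 𝒞 f).f n ≫ e.hom = biprod.inl := by
  let hc := isColimitOfPreserves (eval A (ComplexShape.up ℤ) n) (colimit.isColimit (tower 𝒞 (start 𝒞 f)))
  let e₁ : (mid 𝒞 f).X n ≅ (start 𝒞 f).P.X n ⊞ allSum 𝒞 (start 𝒞 f) n :=
    hc.coconePointUniqueUpToIso (isColimitDeg 𝒞 (start 𝒞 f) n)
  let e₂ : (start 𝒞 f).P.X n ≅ P.X n ⊞ (mappingCone (𝟙 (baseL 𝒞 G))).X n :=
    (eval A (ComplexShape.up ℤ) n).mapBiprod _ _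
  refine ⟨(mappingCone (𝟙 (baseL 𝒞 G))).X n ⊞ allSum 𝒞 (start 𝒞 f) n,
    e₁ ≪≫ biprod.mapIso e₂ (Iso.refl _) ≪≫ biprod.associator _ _ _, ?_, ?_⟩
  · refine IsSum.biprod 𝒞 ?_ ⟨_, _, ⟨Iso.refl _⟩⟩
    exact IsSum.of_iso 𝒞 (HomologicalComplex.homotopyCofiber.XIsoBiprod (𝟙 (baseL 𝒞 G)) n (n + 1) rfl).symm
      (IsSum.biprod 𝒞 (isSum_cov 𝒞 _) (isSum_cov 𝒞 _))
  · have h₁ : (colimit.ι (tower 𝒞 (start 𝒞 f)) 0).f n ≫ e₁.hom = biprod.inl :=
      hc.comp_coconePointUniqueUpToIso_hom (isColimitDeg 𝒞 (start 𝒞 f) n) 0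
    have h₂ : (biprod.inl : P ⟶ P ⊞ mappingCone (𝟙 (baseL 𝒞 G))).f n ≫ e₂.hom = biprod.inl := by
      apply biprod.hom_ext
      · rw [Category.assoc, biprod.inl_fst]
        show (biprod.inl : P ⟶ P ⊞ _).f n ≫ ((eval A (ComplexShape.up ℤ) n).mapBiprod _ _).hom ≫ biprod.fst = _
        rw [Functor.mapBiprod_hom, biprod.lift_fst]
        show (biprod.inl : P ⟶ P ⊞ _).f n ≫ (biprod.fst : P ⊞ _ ⟶ P).f n = _
        rw [← comp_f, biprod.inl_fst, id_f]
      · rw [Category.assoc, biprod.inl_snd]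
        show (biprod.inl : P ⟶ P ⊞ _).f n ≫ ((eval A (ComplexShape.up ℤ) n).mapBiprod _ _).hom ≫ biprod.snd = _
        rw [Functor.mapBiprod_hom, biprod.lift_snd]
        show (biprod.inl : P ⟶ P ⊞ _).f n ≫ (biprod.snd : P ⊞ mappingCone (𝟙 (baseL 𝒞 G)) ⟶ _).f n = _
        rw [← comp_f, biprod.inl_snd, zero_f]
    simp only [Iso.trans_hom, midι, comp_f, Category.assoc, reassoc_of% h₁, biprod.mapIso_hom,
      biprod.inl_map_assoc, reassoc_of% h₂]
    apply biprod.hom_ext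
    · simp [biprod.associator]
    · apply biprod.hom_ext
      · simp [biprod.associator]
      · simp [biprod.associator]

end Factor

end Groth.Agent.FreeResLib
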