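/-
Covers of modules on a ringed site by free modules on objects.
-/
import Groth.Agent.FreeResLib.Killing
import Groth.Agent.ModSiteLib.FlatFree
import Groth.Agent.ModSiteLib.Grothendieck

set_option linter.unusedSectionVars false
set_option linter.style.haveILetI false
set_option backward.isDefEq.respectTransparency false

universe u

open CategoryTheory Limits
open Opposite (op unop)

namespace Groth.Agent.FreeResLib

variable {C : Type u} [SmallCategory C] {J : GrothendieckTopology C} (O : Sheaf J CommRingCat.{u})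

/-- Indices: sections of a nonzero module. -/
abbrev SecT (M : ModSite.Mod O) : Type u :=
  { _p : Σ X : C, M.val.obj (op X) // ¬ IsZero M }

/-- The cover of modules by free modules. -/
noncomputable def siteCov : Cov (ModSite.Mod O) where
  S := C
  obj X := ModSite.freeOn O X
  T M := SecT O M
  idx _ t := t.1.1
  π M t := (ModSiteLib.freeOnEquiv M t.1.1).symm t.1.2
  empty M hM := ⟨fun t => t.2 hM⟩
  epi M := by
    by_cases hM : IsZero M
    · exact ⟨fun g h _ => hM.eq_of_src g h⟩
    refine ⟨fun {Z} g h e => ?_⟩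
    apply ModSiteLib.freeOn_isSeparating O Set.univ (fun X => ⟨PUnit, fun _ => X, fun _ => 𝟙 X, by
      convert J.top_mem X
      ext Y q
      simp only [Sieve.top_apply, iff_true]
      exact ⟨_, q, 𝟙 X, ⟨PUnit.unit⟩, Category.comp_id q⟩, fun _ => Set.mem_univ _⟩)
    rintro _ ⟨X⟩ a
    have := congrArg (fun t => Sigma.ι (fun t : SecT O M => ModSite.freeOn O t.1.1)
      ⟨⟨X, ModSiteLib.freeOnEquiv M X a⟩, hM⟩ ≫ t) e
    simpa using this

theorem isFlat_of_isSum {M : ModSite.Mod O} (h : IsSum (siteCov O) M) : ModSite.IsFlat M := by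
  obtain ⟨T, i, ⟨e⟩⟩ := h
  exact ModSiteLib.isFlat_of_iso O e.symm (ModSiteLib.isFlat_cofan
    (fun t => ModSite.freeOn O (i t)) (fun t => ModSiteLib.isFlat_freeOn O (i t)) _
    (coproductIsCoproduct _))

theorem exists_iso_of_isSum {M : ModSite.Mod O} (h : IsSum (siteCov O) M) :
    ∃ (ι : Type u) (U : ι → C), Nonempty (M ≅ ∐ fun j => ModSite.freeOn O (U j)) := h

end Groth.Agent.FreeResLib

namespace Groth.Agent.FreeResLib

universe v w

instance hasColimitsOfShape_nat {A : Type w} [Category.{v} A] [Abelian A] [IsGrothendieckAbelian.{v} A] :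
    HasColimitsOfShape ℕ A :=
  haveI := hasColimitsOfSizeShrink.{0, 0, v, v} A
  inferInstance

instance hasExactColimitsOfShape_nat {A : Type w} [Category.{v} A] [Abelian A]
    [IsGrothendieckAbelian.{v} A] : HasExactColimitsOfShape ℕ A :=
  haveI := hasColimitsOfSizeShrink.{0, 0, v, v} A
  haveI : HasFilteredColimitsOfSize.{0, 0} A := ⟨fun _ _ _ => inferInstance⟩
  haveI := AB5OfSize_shrink.{0, 0, v, v} A
  inferInstance

end Groth.Agent.FreeResLib
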