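/-
Bounded above acyclic complexes of coproducts of generators stay acyclic under left adjoints whose right
adjoint sends injectives to objects acyclic for the generators.
-/
import Groth.Agent.FreeResLib.Killing
import Groth.Agent.DerLib.LerayAcyclic
import Mathlib.Algebra.Homology.DerivedCategory.Ext.ExactSequences
import Mathlib.Algebra.Homology.DerivedCategory.Ext.EnoughInjectives

set_option linter.unusedSectionVars false
set_option linter.style.haveILetI false
set_option backward.isDefEq.respectTransparency false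

universe w v v' u u'

open CategoryTheory Limits HomologicalComplex CategoryTheory.Abelian
open CochainComplex (mappingCone)

namespace Groth.Agent.FreeResLib

variable {A : Type u} [Category.{v} A] [Abelian A] [HasCoproducts.{v} A] (𝒞 : Cov A) [HasExt.{w} A]

/-- `M` has no higher extensions by the generators. -/
def IsAcy (M : A) : Prop := ∀ (s : 𝒞.S) (q : ℕ), Subsingleton (Ext.{w} (𝒞.obj s) M (q + 1))

variable {𝒞}

theorem IsAcy.quotient {S : ShortComplex A} (hS : S.ShortExact) [Injective S.X₂]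
    (h : IsAcy.{w} 𝒞 S.X₁) : IsAcy.{w} 𝒞 S.X₃ := fun s q => by
  refine subsingleton_of_forall_eq 0 fun x => ?_
  obtain ⟨x₂, rfl⟩ := Ext.covariant_sequence_exact₃ _ hS x rfl ((h s (q + 1)).elim _ _)
  rw [Ext.eq_zero_of_injective x₂, Ext.zero_comp]

theorem IsAcy.exists_lift {S : ShortComplex A} (hS : S.ShortExact) [Injective S.X₂]
    (h : IsAcy.{w} 𝒞 S.X₁) {X : A} (hX : IsSum 𝒞 X) (φ : X ⟶ S.X₃) :
    ∃ ψ : X ⟶ S.X₂, ψ ≫ S.g = φ := by
  obtain ⟨T, i, ⟨e⟩⟩ := hX
  have hgen : ∀ t, ∃ ψ : 𝒞.obj (i t) ⟶ S.X₂,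
      ψ ≫ S.g = Sigma.ι (fun t => 𝒞.obj (i t)) t ≫ e.inv ≫ φ := fun t => by
    obtain ⟨x₂, hx₂⟩ := Ext.covariant_sequence_exact₃ _ hS
      (Ext.mk₀ (Sigma.ι (fun t => 𝒞.obj (i t)) t ≫ e.inv ≫ φ)) (n₁ := 1) rfl ((h (i t) 0).elim _ _)
    obtain ⟨ψ, rfl⟩ := (Ext.mk₀_bijective _ _).2 x₂
    rw [Ext.mk₀_comp_mk₀] at hx₂
    exact ⟨ψ, (Ext.mk₀_bijective _ _).1 hx₂⟩
  choose ψ hψ using hgen
  refine ⟨e.hom ≫ Sigma.desc ψ, ?_⟩
  rw [← cancel_epi e.inv, Category.assoc, e.inv_hom_id_assoc]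
  exact Sigma.hom_ext _ _ fun t => by rw [Sigma.ι_desc_assoc, hψ]

variable [EnoughInjectives A]

theorem IsAcy.exists_factor (Cx : CochainComplex A ℤ) (hC : ∀ n, IsSum 𝒞 (Cx.X n))
    (hac : Cx.Acyclic) (b : ℤ) [Cx.IsStrictlyLE b] {M : A} (hM : IsAcy.{w} 𝒞 M) (n : ℤ)
    (φ : Cx.X n ⟶ M) (hφ : Cx.d (n - 1) n ≫ φ = 0) :
    ∃ ψ : Cx.X (n + 1) ⟶ M, Cx.d n (n + 1) ≫ ψ = φ := by
  obtain ⟨k, hk⟩ : ∃ k : ℕ, b ≤ n + k := ⟨(b - n).toNat, by omega⟩
  induction k generalizing M n with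
  | zero =>
    refine ⟨0, ?_⟩
    rw [comp_zero]
    by_cases hn : b < n
    · exact (Cx.isZero_of_isStrictlyLE b n hn).eq_of_src _ _
    · haveI : Epi (Cx.d (n - 1) n) := by
        have := (exactAt_iff' Cx (n - 1) n (n + 1) (by simp) (by simp)).1 (hac n)
        exact (this.epi_f ((Cx.isZero_of_isStrictlyLE b (n + 1) (by omega)).eq_of_tgt _ _))
      rw [← cancel_epi (Cx.d (n - 1) n), comp_zero, hφ]
  | succ k ih =>
    let S : ShortComplex A := ShortComplex.mk (Injective.ι M) (cokernel.π (Injective.ι M))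
      (cokernel.condition _)
    have hS : S.ShortExact :=
      { exact := ShortComplex.exact_cokernel _ }
    haveI : Injective S.X₂ := inferInstanceAs (Injective (Injective.under M))
    have hexn := (exactAt_iff' Cx (n - 1) n (n + 1) (by simp) (by simp)).1 (hac n)
    obtain ⟨ψ, hψ⟩ : ∃ ψ : Cx.X (n + 1) ⟶ S.X₂, Cx.d n (n + 1) ≫ ψ = φ ≫ S.f :=
      ⟨hexn.descToInjective (φ ≫ S.f) (by
          show Cx.d (n - 1) n ≫ φ ≫ S.f = 0
          rw [reassoc_of% hφ, zero_comp]),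
        hexn.comp_descToInjective _ _⟩
    obtain ⟨χ, hχ⟩ := ih (IsAcy.quotient hS hM) (n + 1) (ψ ≫ S.g) (by
      have h1 : Cx.d n (n + 1) ≫ ψ ≫ S.g = 0 := by
        rw [reassoc_of% hψ, S.zero, comp_zero]
      have h2 : n + 1 - 1 = n := by omega
      rw [h2]
      exact h1) (by omega)
    obtain ⟨χ', rfl⟩ := IsAcy.exists_lift hS hM (hC _) χ
    haveI : Mono S.f := hS.mono_f
    have hker : (ψ - Cx.d (n + 1) (n + 1 + 1) ≫ χ') ≫ S.g = 0 := by
      rw [Preadditive.sub_comp, Category.assoc, hχ, sub_self]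
    refine ⟨hS.exact.lift _ hker, ?_⟩
    rw [← cancel_mono S.f, Category.assoc, hS.exact.lift_f, Preadditive.comp_sub, hψ,
      d_comp_d_assoc, zero_comp, sub_zero]

variable {B : Type u'} [Category.{v'} B] [Abelian B] [EnoughInjectives B] {L : A ⥤ B} {R : B ⥤ A}
  (adj : L ⊣ R) [L.Additive] [R.Additive]
  (hR : ∀ (Q : B) [Injective Q], IsAcy.{w} 𝒞 (R.obj Q))
include adj hR

/-- The image of a bounded above acyclic complex of coproducts of generators is acyclic. -/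
theorem acyclic_map_of_isSum (Cx : CochainComplex A ℤ) (hC : ∀ n, IsSum 𝒞 (Cx.X n))
    (hac : Cx.Acyclic) (b : ℤ) [Cx.IsStrictlyLE b] :
    ((L.mapHomologicalComplex (ComplexShape.up ℤ)).obj Cx).Acyclic := fun n => by
  rw [exactAt_iff' _ (n - 1) n (n + 1) (by simp) (by simp),
    ShortComplex.exact_iff_kernel_ι_comp_cokernel_π_zero]
  let T := ((L.mapHomologicalComplex (ComplexShape.up ℤ)).obj Cx).sc' (n - 1) n (n + 1)
  show kernel.ι T.g ≫ cokernel.π T.f = 0
  let φ : L.obj (Cx.X n) ⟶ Injective.under (cokernel T.f) := cokernel.π T.f ≫ Injective.ι _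
  have hφ : Cx.d (n - 1) n ≫ adj.homEquiv _ _ φ = 0 := by
    rw [← adj.homEquiv_naturality_left, adj.homEquiv_unit]
    have : L.map (Cx.d (n - 1) n) ≫ φ = 0 := by
      show T.f ≫ φ = 0
      rw [cokernel.condition_assoc, zero_comp]
    rw [this, Functor.map_zero, comp_zero]
  obtain ⟨ψ, hψ⟩ := IsAcy.exists_factor Cx hC hac b (hR _) n _ hφ
  have h1 : T.g ≫ (adj.homEquiv _ _).symm ψ = φ := by
    show L.map (Cx.d n (n + 1)) ≫ _ = _
    rw [← adj.homEquiv_naturality_left_symm, hψ, Equiv.symm_apply_apply]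
  rw [← cancel_mono (Injective.ι (cokernel T.f)), zero_comp, Category.assoc]
  show kernel.ι T.g ≫ φ = 0
  rw [← h1, kernel.condition_assoc, zero_comp]

/-- Quasi-isomorphisms of bounded above complexes of coproducts of generators are preserved. -/
theorem quasiIso_map_of_isSum {K P : CochainComplex A ℤ} (g : K ⟶ P) [QuasiIso g]
    (hK : ∀ n, IsSum 𝒞 (K.X n)) (hP : ∀ n, IsSum 𝒞 (P.X n)) (b : ℤ) [K.IsStrictlyLE b]
    [P.IsStrictlyLE b] : QuasiIso ((L.mapHomologicalComplex (ComplexShape.up ℤ)).map g) := by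
  haveI : (mappingCone g).IsStrictlyLE b := by
    rw [CochainComplex.isStrictlyLE_iff]
    intro i hi
    exact (IsZero.iff_id_eq_zero _).2
      ((CochainComplex.mappingCone.ext_from_iff g (i + 1) i rfl _ _).2
        ⟨(K.isZero_of_isStrictlyLE b (i + 1) (by omega)).eq_of_src _ _,
          (P.isZero_of_isStrictlyLE b i hi).eq_of_src _ _⟩)
  exact DerLib.LerayAcyclic.quasiIso_map_of_acyclic L g (acyclic_map_of_isSum adj hR _
    (fun n => IsSum.of_iso 𝒞 (HomologicalComplex.homotopyCofiber.XIsoBiprod g n (n + 1) rfl).symm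
      (IsSum.biprod 𝒞 (hK (n + 1)) (hP n))) (DerLib.LerayAcyclic.acyclic_mappingCone g) b)

end Groth.Agent.FreeResLib
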