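/-
A right adjoint whose values on injectives are acyclic for generators: maps from bounded above complexes of
coproducts of generators into its right derived functor.
-/
import Groth.Agent.FreeResLib.Acyclic
import Groth.Agent.DerLib.KInjDerived
import Mathlib.Algebra.Homology.DerivedCategory.Fractions

set_option linter.unusedSectionVars false
set_option linter.style.haveILetI false
set_option backward.isDefEq.respectTransparency false

universe w₀ w w' v v' u u'

open CategoryTheory Limits HomologicalComplex CategoryTheory.Abelian DerivedCategory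
open scoped ZeroObject

namespace Groth.Agent.FreeResLib

variable {A : Type u} [Category.{v} A] [Abelian A] [HasCoproducts.{v} A] [HasExt.{w₀} A]
  [EnoughInjectives A] [HasColimitsOfShape ℕ A] [HasExactColimitsOfShape ℕ A] {𝒞 : Cov A}
  {B : Type u'} [Category.{v'} B] [Abelian B] [EnoughInjectives B] {L : A ⥤ B} {R : B ⥤ A}
  (adj : L ⊣ R) [L.Additive] [R.Additive]
  (hR : ∀ (Q : B) [Injective Q], IsAcy.{w₀} 𝒞 (R.obj Q))
  [HasDerivedCategory.{w} A] [HasDerivedCategory.{w'} B]

/-- The homotopy quotient of `A`. -/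
noncomputable abbrev qA (K : CochainComplex A ℤ) : HomotopyCategory A (ComplexShape.up ℤ) :=
  (HomotopyCategory.quotient A (ComplexShape.up ℤ)).obj K

/-- The homotopy quotient of `B`. -/
noncomputable abbrev qB (K : CochainComplex B ℤ) : HomotopyCategory B (ComplexShape.up ℤ) :=
  (HomotopyCategory.quotient B (ComplexShape.up ℤ)).obj K

/-- A bounded above complex admits a quasi-isomorphism from a complex of coproducts of generators. -/
theorem exists_isSum_resolution (X : CochainComplex A ℤ) (b : ℤ) [X.IsStrictlyLE b] :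
    ∃ (P : CochainComplex A ℤ) (_ : P.IsStrictlyLE (b + 1)) (π : P ⟶ X) (_ : QuasiIso π),
      ∀ n, IsSum 𝒞 (P.X n) := by
  haveI : (zeroCx fun _ : ℤ => (0 : A)).IsStrictlyLE b := by
    rw [CochainComplex.isStrictlyLE_iff]
    exact fun i _ => isZero_zero A
  refine ⟨mid 𝒞 (0 : zeroCx (fun _ : ℤ => (0 : A)) ⟶ X), isStrictlyLE_mid 𝒞 _ b, midπ 𝒞 _,
    quasiIso_midπ 𝒞 _, fun n => ?_⟩
  obtain ⟨Q, e, hQ, -⟩ := exists_splitting 𝒞 (0 : zeroCx (fun _ : ℤ => (0 : A)) ⟶ X) n
  exact IsSum.of_iso 𝒞 e.symm (IsSum.biprod 𝒞 (isSum_of_isZero 𝒞 (isZero_zero A)) hQ)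

/-- The adjunction on homotopy categories. -/
noncomputable abbrev hAdj :=
  DerLib.KInjDerived.mapHomotopyCategoryAdj adj (ComplexShape.up ℤ)

include hR adj in
/-- Quasi-isomorphisms of bounded above complexes of coproducts of generators induce bijections into
the image of a K-injective complex. -/
theorem bijective_precomp {G P : CochainComplex A ℤ} (s : P ⟶ G) [QuasiIso s]
    (hG : ∀ n, IsSum 𝒞 (G.X n)) (hP : ∀ n, IsSum 𝒞 (P.X n)) (b : ℤ) [G.IsStrictlyLE b]
    [P.IsStrictlyLE b] (I : CochainComplex B ℤ) [I.IsKInjective] :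
    Function.Bijective fun h : qA G ⟶ (R.mapHomotopyCategory (ComplexShape.up ℤ)).obj (qB I) =>
      (HomotopyCategory.quotient A _).map s ≫ h := by
  let LK := L.mapHomotopyCategory (ComplexShape.up ℤ)
  haveI := quasiIso_map_of_isSum adj hR s hP hG b
  haveI : IsIso (Qh.map (LK.map ((HomotopyCategory.quotient A _).map s))) := by
    rw [isIso_Qh_map_iff]
    exact (HomotopyCategory.quotient_map_mem_quasiIso_iff _).2
      ((HomologicalComplex.mem_quasiIso_iff _).2
        (inferInstanceAs (QuasiIso ((L.mapHomologicalComplex (ComplexShape.up ℤ)).map s))))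
  have h1 : Function.Bijective fun h : LK.obj (qA G) ⟶ qB I =>
      LK.map ((HomotopyCategory.quotient A _).map s) ≫ h := by
    have hP := CochainComplex.IsKInjective.Qh_map_bijective (LK.obj (qA P)) I
    have hG := CochainComplex.IsKInjective.Qh_map_bijective (LK.obj (qA G)) I
    have hc : Function.Bijective fun x : Qh.obj (LK.obj (qA G)) ⟶ Qh.obj (qB I) =>
        Qh.map (LK.map ((HomotopyCategory.quotient A _).map s)) ≫ x :=
      ((asIso (Qh.map (LK.map ((HomotopyCategory.quotient A _).map s)))).homFromEquiv).symm.bijective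
    rw [← Function.Bijective.of_comp_iff' hP]
    convert hc.comp hG using 1
    funext h
    exact Functor.map_comp _ _ _
  have h2 := (((hAdj adj).homEquiv (qA P) (qB I)).bijective.comp h1).comp
    ((hAdj adj).homEquiv (qA G) (qB I)).symm.bijective
  convert h2 using 1
  funext h
  show _ = (hAdj adj).homEquiv _ _ (LK.map _ ≫ _)
  rw [Adjunction.homEquiv_naturality_left, Equiv.apply_symm_apply]

include hR adj in
/-- Homotopy classes into the image of a K-injective complex are maps in the derived category. -/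
theorem Qh_map_bijective (G : CochainComplex A ℤ) (hG : ∀ n, IsSum 𝒞 (G.X n)) (b : ℤ)
    [G.IsStrictlyLE b] (I : CochainComplex B ℤ) [I.IsKInjective] :
    Function.Bijective (Qh.map : (qA G ⟶ (R.mapHomotopyCategory (ComplexShape.up ℤ)).obj (qB I)) → _) := by
  let RI := (R.mapHomologicalComplex (ComplexShape.up ℤ)).obj I
  haveI : G.IsStrictlyLE (b + 1) := CochainComplex.isStrictlyLE_of_le G b (b + 1) (by omega)
  refine ⟨fun φ₁ φ₂ h => ?_, fun f => ?_⟩
  · obtain ⟨X, s, hs, e⟩ := (MorphismProperty.map_eq_iff_precomp Qh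
      (HomotopyCategory.quasiIso A (ComplexShape.up ℤ)) φ₁ φ₂).1 h
    obtain ⟨X₀, rfl⟩ := HomotopyCategory.quotient_obj_surjective X
    let X : CochainComplex A ℤ := X₀
    obtain ⟨s₀, rfl⟩ := (HomotopyCategory.quotient _ _).map_surjective s
    let s : X ⟶ G := s₀
    rw [HomotopyCategory.quotient_map_mem_quasiIso_iff, HomologicalComplex.mem_quasiIso_iff] at hs
    haveI := hs
    haveI : X.IsLE b := by
      rw [CochainComplex.isLE_iff]
      intro i hi
      rw [exactAt_iff_isZero_homology]
      exact ((exactAt_iff_isZero_homology G i).1 (G.exactAt_of_isLE b i hi)).of_iso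
        (asIso (homologyMap s i))
    obtain ⟨P, hP', π, hπ, hP⟩ := exists_isSum_resolution (𝒞 := 𝒞) (X.truncLE b) b
    apply (bijective_precomp adj hR (π ≫ X.ιTruncLE b ≫ s) hG hP (b + 1) I).1
    show (HomotopyCategory.quotient A _).map (π ≫ X.ιTruncLE b ≫ s) ≫ φ₁ =
      (HomotopyCategory.quotient A _).map (π ≫ X.ιTruncLE b ≫ s) ≫ φ₂
    simp only [Functor.map_comp, Category.assoc]
    exact congrArg (fun t => (HomotopyCategory.quotient A _).map π ≫
      (HomotopyCategory.quotient A _).map (X.ιTruncLE b) ≫ t) e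
  · obtain ⟨X, hX, s, hs, g, hf⟩ := right_fac_of_isStrictlyLE (X := G) (Y := RI) f b
    haveI := (isIso_Q_map_iff_quasiIso A s).1 hs
    obtain ⟨P, hP', π, hπ, hP⟩ := exists_isSum_resolution (𝒞 := 𝒞) X b
    obtain ⟨h, hh⟩ := (bijective_precomp adj hR (π ≫ s) hG hP (b + 1) I).2
      ((HomotopyCategory.quotient A _).map (π ≫ g))
    refine ⟨h, ?_⟩
    haveI := (isIso_Q_map_iff_quasiIso A π).2 hπ
    subst hf
    rw [← cancel_epi (Q.map s), IsIso.hom_inv_id_assoc, ← cancel_epi (Q.map π), ← Category.assoc,
      ← Functor.map_comp, ← Functor.map_comp]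
    exact (Qh.map_comp _ h).symm.trans (congrArg Qh.map hh)

variable (RF : DerivedCategory B ⥤ DerivedCategory A)
  (α : R.mapHomotopyCategory (ComplexShape.up ℤ) ⋙ Qh ⟶ Qh ⋙ RF)

/-- The universal map out of a complex into the derived functor of the image of `L`. -/
noncomputable def theta (G : CochainComplex A ℤ) :
    Qh.obj (qA G) ⟶ RF.obj (Qh.obj ((L.mapHomotopyCategory (ComplexShape.up ℤ)).obj (qA G))) :=
  Qh.map ((hAdj adj).unit.app (qA G)) ≫ α.app _

include hR in
/-- Maps out of a bounded above complex of coproducts of generators into the derived functor are maps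
out of its image under `L`. -/
theorem theta_bijective (hB : DerLib.KInjDerived.EnoughKInj B)
    [RF.IsRightDerivedFunctor α (HomotopyCategory.quasiIso B (ComplexShape.up ℤ))]
    (G : CochainComplex A ℤ) (hG : ∀ n, IsSum 𝒞 (G.X n)) (b : ℤ) [G.IsStrictlyLE b]
    (X : DerivedCategory B) :
    Function.Bijective fun x : Qh.obj ((L.mapHomotopyCategory (ComplexShape.up ℤ)).obj (qA G)) ⟶ X =>
      theta adj RF α G ≫ RF.map x := by
  obtain ⟨I, hI, ⟨e⟩⟩ := DerLib.KInjDerived.essSurj_kInjective hB X
  haveI := hI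
  suffices h : Function.Bijective fun x :
      Qh.obj ((L.mapHomotopyCategory (ComplexShape.up ℤ)).obj (qA G)) ⟶ Qh.obj (qB I) =>
      theta adj RF α G ≫ RF.map x by
    have := ((RF.mapIso e).homToEquiv.bijective.comp h).comp e.homToEquiv.symm.bijective
    convert this using 1
    funext x
    simp [Iso.homToEquiv]
  haveI := DerLib.KInjDerived.isIso_app RF α hB I
  have hq := CochainComplex.IsKInjective.Qh_map_bijective
    ((L.mapHomotopyCategory (ComplexShape.up ℤ)).obj (qA G)) I
  rw [← Function.Bijective.of_comp_iff _ hq]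
  have := ((asIso (α.app (qB I))).homToEquiv.bijective.comp (Qh_map_bijective adj hR G hG b I)).comp
    ((hAdj adj).homEquiv (qA G) (qB I)).bijective
  refine (congrArg Function.Bijective (funext fun h => ?_)).mp this
  show Qh.map ((hAdj adj).homEquiv _ _ h) ≫ α.app (qB I) = theta adj RF α G ≫ RF.map (Qh.map h)
  rw [theta, Category.assoc, Adjunction.homEquiv_unit, Functor.map_comp, Category.assoc]
  exact congrArg (Qh.map ((hAdj adj).unit.app (qA G)) ≫ ·) (α.naturality h)

end Groth.Agent.FreeResLib
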